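import Cfsg.Agent.Lib.Known.RootLiftF.Sys

/-!
# Double cosets of the lifted unipotent group: faithfulness of coprime lifts
-/

set_option autoImplicit false
set_option linter.unusedSectionVars false

namespace CfsgLib.Known.RootLiftF.Sys

open CfsgLib.Known.RootLift (CoprimeExt IsPElt isPElt_of_mem)

variable {Γ G F : Type*} [Group Γ] [Group G] [Finite Γ] [Field F] [Finite F] {ι κ : Type*} [Fintype κ]
  {π : Γ →* G} {p : ℕ} (S : Sys G F p ι κ) [CharP F p] (hU : IsPGroup p S.U) (H : CoprimeExt π p)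

/-- the torus parameters of a simple family -/
abbrev TU (k : κ) : Type _ := (↥(S.dom (S.sim k)))ˣ

omit [Finite Γ] in
theorem tu_ne {k : κ} (c : S.TU k) : ((c : S.dom (S.sim k)) : F) ≠ 0 := fun e => c.ne_zero (Subtype.ext e)

/-- the lifted torus as a homomorphism of one parameter -/
noncomputable def hhHom (k : κ) : S.TU k →* Γ where
  toFun c := S.hh H k ((c : S.dom (S.sim k)) : F)
  map_one' := S.hh_one H k
  map_mul' a b := (S.hh_mul H k (S.tu_ne a) (S.tu_ne b) (a : S.dom (S.sim k)).2 (b : S.dom (S.sim k)).2).symm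

theorem pairwise_hh : Pairwise fun k l : κ => ∀ a b, Commute (S.hhHom H k a) (S.hhHom H l b) :=
  fun k l _ a b => S.commute_hh H (S.mon_hh H k (S.tu_ne a) (a : S.dom (S.sim k)).2) l (S.tu_ne b)
    (b : S.dom (S.sim l)).2

/-- the lifted torus -/
noncomputable def tor : ((k : κ) → S.TU k) →* Γ := MonoidHom.noncommPiCoprod (S.hhHom H) (S.pairwise_hh H)

/-- the lifted torus subgroup -/
noncomputable def HH : Subgroup Γ := (S.tor H).range

theorem hh_mem (k : κ) {c : F} (hc : c ≠ 0) (hd : c ∈ S.dom (S.sim k)) : S.hh H k c ∈ S.HH H := by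
  classical
  exact ⟨Pi.mulSingle k (Units.mk0 ⟨c, hd⟩ fun e => hc (congrArg Subtype.val e)),
    MonoidHom.noncommPiCoprod_mulSingle _ _ _⟩

theorem HH_le {K : Subgroup Γ} (h : ∀ k c, c ≠ 0 → c ∈ S.dom (S.sim k) → S.hh H k c ∈ K) : S.HH H ≤ K := by
  rw [HH, tor, MonoidHom.noncommPiCoprod_range]
  refine iSup_le fun k => ?_
  rintro _ ⟨c, rfl⟩
  exact h k _ (S.tu_ne c) (c : S.dom (S.sim k)).2

/-- lifted Weyl group elements -/
def NN : Subgroup Γ := Subgroup.closure {g | ∃ k c, c ≠ 0 ∧ c ∈ S.dom (S.sim k) ∧ g = S.nn H k c}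

theorem nn_mem (k : κ) {c : F} (hc : c ≠ 0) (hd : c ∈ S.dom (S.sim k)) : S.nn H k c ∈ S.NN H :=
  Subgroup.subset_closure ⟨k, c, hc, hd, rfl⟩

theorem HH_le_NN : S.HH H ≤ S.NN H :=
  S.HH_le H fun k _ hc hd => mul_mem (S.nn_mem H k hc hd)
    (S.nn_mem H k (neg_ne_zero.2 one_ne_zero) (neg_mem (one_mem _)))

theorem mon_HH {g : Γ} (hg : g ∈ S.HH H) : S.Mon H g 1 := by
  let K : Subgroup Γ :=
    { carrier := {g | S.Mon H g 1}
      one_mem' := S.mon_one H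
      mul_mem' := fun {a b} (ha : S.Mon H a 1) (hb : S.Mon H b 1) => by
        have := Mon.mul S H ha hb; rwa [one_mul] at this
      inv_mem' := fun {a} (ha : S.Mon H a 1) => by have := Mon.inv S H ha; rwa [inv_one] at this }
  exact S.HH_le H (K := K) (fun k _ hc hd => S.mon_hh H k hc hd) hg

theorem nn_conj_HH (k : κ) {c : F} (hc : c ≠ 0) (hcd : c ∈ S.dom (S.sim k)) {g : Γ} (hg : g ∈ S.HH H) :
    S.nn H k c * g * (S.nn H k c)⁻¹ ∈ S.HH H := by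
  refine S.HH_le H (K := (S.HH H).comap (MulAut.conj (S.nn H k c)).toMonoidHom) (fun l d hd hdd => ?_) hg
  obtain ⟨μ, hμ, m, h⟩ := S.mon_one_nn H (S.mon_hh H l hd hdd) k
  rw [Subgroup.mem_comap]
  show S.nn H k c * S.hh H l d * (S.nn H k c)⁻¹ ∈ S.HH H
  rw [show S.nn H k c * S.hh H l d * (S.nn H k c)⁻¹ =
    S.nn H k c * (S.hh H l d * S.nn H k (-c) * (S.hh H l d)⁻¹) * S.hh H l d by rw [S.nn_neg]; group, h _ (neg_mem hcd), mul_neg,
    S.nn_neg, S.nn_eq H k (μ * c), S.nn_eq H k c]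
  rw [show S.hh H k c * S.nn H k 1 * (S.hh H k (μ * c) * S.nn H k 1)⁻¹ =
    S.hh H k c * (S.hh H k (μ * c))⁻¹ by group]
  exact mul_mem (mul_mem (S.hh_mem H k hc hcd) (inv_mem (S.hh_mem H k (mul_ne_zero hμ hc) (mul_mem m hcd))))
    (S.hh_mem H l hd hdd)

/-- word in simple Weyl elements -/
noncomputable def wn (l : List κ) : Γ := (l.map fun k => S.nn H k 1).prod

/-- permutation of a word -/
def wp (l : List κ) : Equiv.Perm ι := (l.map S.s).prod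

theorem mon_wn : ∀ l : List κ, S.Mon H (S.wn H l) (S.wp l)
  | [] => by simpa [wn, wp] using S.mon_one H
  | k :: l => by
    simpa [wn, wp] using Mon.mul S H (S.mon_nn H k one_ne_zero (one_mem _)) (mon_wn l)

theorem wn_conj_HH : ∀ (l : List κ) {g : Γ}, g ∈ S.HH H → S.wn H l * g * (S.wn H l)⁻¹ ∈ S.HH H
  | [], g, hg => by simpa [wn] using hg
  | k :: l, g, hg => by
    have := S.nn_conj_HH H k one_ne_zero (one_mem _) (wn_conj_HH l hg)
    simpa [wn, mul_assoc] using this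

theorem exists_word {g : Γ} (hg : g ∈ S.NN H) : ∃ h ∈ S.HH H, ∃ l, g = h * S.wn H l := by
  have hcons : ∀ k c, c ≠ 0 → c ∈ S.dom (S.sim k) → ∀ y : Γ, (∃ h ∈ S.HH H, ∃ l, y = h * S.wn H l) →
      ∃ h ∈ S.HH H, ∃ l, S.nn H k c * y = h * S.wn H l := by
    rintro k c hc hd _ ⟨h, hh, l, rfl⟩
    refine ⟨S.nn H k c * h * (S.nn H k c)⁻¹ * S.hh H k c,
      mul_mem (S.nn_conj_HH H k hc hd hh) (S.hh_mem H k hc hd), k :: l, ?_⟩
    rw [show S.wn H (k :: l) = S.nn H k 1 * S.wn H l by simp [wn]]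
    rw [show S.nn H k c * h * (S.nn H k c)⁻¹ * S.hh H k c * (S.nn H k 1 * S.wn H l) =
      S.nn H k c * h * (S.nn H k c)⁻¹ * (S.hh H k c * S.nn H k 1) * S.wn H l by group, ← S.nn_eq]
    group
  induction hg using Subgroup.closure_induction_left with
  | one => exact ⟨1, one_mem _, [], by simp [wn]⟩
  | mul_left x hx y _ hy => obtain ⟨k, c, hc, hd, rfl⟩ := hx; exact hcons k c hc hd y hy
  | inv_mul_cancel x hx y _ hy =>
    obtain ⟨k, c, hc, hd, rfl⟩ := hx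
    rw [← S.nn_neg]
    exact hcons k _ (neg_ne_zero.2 hc) (neg_mem hd) y hy

theorem exists_flip : ∀ (l : List κ) (a : ι), S.pos a → ¬ S.pos (S.wp l a) →
    ∃ l1 k l2, l = l1 ++ k :: l2 ∧ S.pos (S.wp l2 a) ∧ ¬ S.pos (S.s k (S.wp l2 a))
  | [], a, ha, hn => absurd ha (by simpa [wp] using hn)
  | k :: l, a, ha, hn => by
    by_cases h : S.pos (S.wp l a)
    · exact ⟨[], k, l, rfl, h, by simpa [wp] using hn⟩
    · obtain ⟨l1, k', l2, rfl, h1, h2⟩ := exists_flip l a ha h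
      exact ⟨k :: l1, k', l2, rfl, h1, h2⟩

theorem exists_shorter {l : List κ} {r : κ} (hn : ¬ S.pos (S.wp l (S.sim r))) :
    ∃ h ∈ S.HH H, ∃ l', l'.length < l.length + 1 ∧ S.wn H (l ++ [r]) = h * S.wn H l' := by
  obtain ⟨l1, k, l2, rfl, h1, h2⟩ := S.exists_flip l _ (S.pos_sim r) hn
  obtain ⟨hdom, μ, hμ, m, m1, m2⟩ := S.mon_wn H l2 (S.sim r)
  rw [← hdom] at m
  obtain ⟨ν, hνd, hν, f1, f2⟩ := S.flip k _ h1 h2 μ m hμ
  have key : S.wn H l2 * S.nn H r 1 * (S.wn H l2)⁻¹ = S.nn H k ν := by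
    rw [nn, show S.wn H l2 * (S.rx H (S.sim r) 1 * S.ry H (S.sim r) (-1⁻¹) * S.rx H (S.sim r) 1) * (S.wn H l2)⁻¹ =
      (S.wn H l2 * S.rx H (S.sim r) 1 * (S.wn H l2)⁻¹) * (S.wn H l2 * S.ry H (S.sim r) (-1⁻¹) * (S.wn H l2)⁻¹) *
        (S.wn H l2 * S.rx H (S.sim r) 1 * (S.wn H l2)⁻¹) by group, m1 1 (one_mem _),
      m2 _ (neg_mem (inv_mem (one_mem _))), nn]
    simp only [rx, ry, mul_one, inv_one]
    rw [show (-1 : F) / μ = -μ⁻¹ by field_simp, f1, f2]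
  refine ⟨S.wn H l1 * (S.nn H k 1 * S.hh H k ν * (S.nn H k 1)⁻¹ *
    (S.nn H k 1 * S.nn H k 1)) * (S.wn H l1)⁻¹, ?_, l1 ++ l2, by simp, ?_⟩
  · refine S.wn_conj_HH H l1 (mul_mem (S.nn_conj_HH H k one_ne_zero (one_mem _) (S.hh_mem H k hν hνd)) ?_)
    rw [show S.nn H k 1 * S.nn H k 1 = (S.hh H k (-1))⁻¹ by
      rw [S.hh_inv, neg_neg]]
    exact inv_mem (S.hh_mem H k (neg_ne_zero.2 one_ne_zero) (neg_mem (one_mem _)))
  · have e1 : S.wn H ((l1 ++ k :: l2) ++ [r]) = S.wn H l1 * (S.nn H k 1 * (S.wn H l2 * S.nn H r 1)) := by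
      simp [wn, mul_assoc]
    have e2 : S.wn H (l1 ++ l2) = S.wn H l1 * S.wn H l2 := by simp [wn]
    rw [e1, e2, show S.wn H l2 * S.nn H r 1 = S.nn H k ν * S.wn H l2 by rw [← key]; group,
      S.nn_eq H k ν]
    group

theorem mem_HH_of_normalizes {g : Γ} (hg : g ∈ S.NN H)
    (hn : ∀ x ∈ S.U, π g * x * (π g)⁻¹ ∈ S.U) : g ∈ S.HH H := by
  suffices ∀ n, ∀ l : List κ, l.length = n → ∀ h ∈ S.HH H,
      (∀ x ∈ S.U, π (h * S.wn H l) * x * (π (h * S.wn H l))⁻¹ ∈ S.U) → h * S.wn H l ∈ S.HH H by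
    obtain ⟨h, hh, l, rfl⟩ := S.exists_word H hg
    exact this _ l rfl h hh hn
  intro n
  induction n using Nat.strong_induction_on with
  | _ n ih =>
  intro l hl h hh hn
  rcases List.eq_nil_or_concat l with rfl | ⟨l', r, rfl⟩
  · simpa [wn] using hh
  rw [List.concat_eq_append] at hl hn ⊢
  by_cases hp : S.pos (S.wp l' (S.sim r))
  · exfalso
    obtain ⟨hdom, μ, hμ, m, -, m2⟩ := S.mon_wn H l' (S.sim r)
    obtain ⟨-, μ', hμ', m', -, h2⟩ := S.mon_HH H hh (S.wp l' (S.sim r))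
    have hmem : -1 / μ ∈ S.dom (S.wp l' (S.sim r)) := hdom ▸ div_mem (neg_mem (one_mem _)) m
    have hx := hn _ (S.R_mem _ 1 (S.pos_sim r))
    have e : h * S.wn H (l' ++ [r]) * S.rx H (S.sim r) 1 * (h * S.wn H (l' ++ [r]))⁻¹ =
        S.ry H (S.wp l' (S.sim r)) (-1 / μ / μ') := by
      rw [show S.wn H (l' ++ [r]) = S.wn H l' * S.nn H r 1 by simp [wn],
        show h * (S.wn H l' * S.nn H r 1) * S.rx H (S.sim r) 1 * (h * (S.wn H l' * S.nn H r 1))⁻¹ =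
          h * (S.wn H l' * (S.nn H r 1 * S.rx H (S.sim r) 1 * (S.nn H r 1)⁻¹) * (S.wn H l')⁻¹) * h⁻¹ by group,
        S.nn_rx H r one_ne_zero (one_mem _) (one_mem _), m2 _ (div_mem (neg_mem (one_mem _)) (pow_mem (one_mem _) 2)),
        show -(1 : F) / 1 ^ 2 / μ = -1 / μ by norm_num, h2 _ hmem, Equiv.Perm.one_apply]
    have e' := congrArg π e
    simp only [map_mul, map_inv, π_rx, π_ry] at e'
    simp only [map_mul] at hx
    rw [e'] at hx
    exact S.N_not _ _ hp (div_mem hmem m') (div_ne_zero (div_ne_zero (by norm_num) hμ) hμ') hx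
  · obtain ⟨h', hh', l'', hlt, e⟩ := S.exists_shorter H hp
    rw [e, ← mul_assoc] at hn ⊢
    refine ih l''.length ?_ l'' rfl _ (mul_mem hh hh') hn
    rw [← hl, List.length_append, List.length_singleton]
    exact hlt

include hU

/-- lifted unipotent group -/
noncomputable def UU : Subgroup Γ := H.lift S.U hU

/-- the union of double cosets -/
def InS (g : Γ) : Prop := ∃ u ∈ S.UU hU H, ∃ w ∈ S.NN H, ∃ u' ∈ S.UU hU H, g = u * w * u'

theorem inS_mul {g : Γ} {u u' : Γ} (hu : u ∈ S.UU hU H) (hg : S.InS hU H g) (hu' : u' ∈ S.UU hU H) :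
    S.InS hU H (u * g * u') := by
  obtain ⟨a, ha, w, hw, b, hb, rfl⟩ := hg
  exact ⟨u * a, mul_mem hu ha, w, hw, b * u', mul_mem hb hu', by group⟩

theorem nn_inS {k : κ} {c : F} (hc : c ≠ 0) (hd : c ∈ S.dom (S.sim k)) {g : Γ} (hg : S.InS hU H g) : S.InS hU H (S.nn H k c * g) := by
  obtain ⟨x, hx, w, hw, b, hb, rfl⟩ := hg
  obtain ⟨u, hu, rfl⟩ := hx
  obtain ⟨t, htd, ht⟩ := S.split k u hu
  have hRs : S.R (S.sim k) t ∈ S.U := S.R_mem _ _ (S.pos_sim k)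
  have hu' : S.nn H k c * H.L (u * S.R (S.sim k) t) * (S.nn H k c)⁻¹ ∈ S.UU hU H := by
    rw [H.conj_L (isPElt_of_mem hU (mul_mem hu hRs)), S.π_nn]
    exact H.L_mem_lift hU (ht c hc hd)
  suffices hin : S.InS hU H (S.nn H k c * S.rx H (S.sim k) (-t) * w) by
    have := S.inS_mul hU H hu' hin hb
    convert this using 1
    rw [H.L_mul hU hu hRs, show H.L (S.R (S.sim k) t) = S.rx H (S.sim k) t from rfl, S.rx_neg]
    group
  rcases eq_or_ne t 0 with rfl | ht0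
  · exact ⟨1, one_mem _, _, mul_mem (S.nn_mem H k hc hd) hw, 1, one_mem _, by rw [neg_zero, S.rx_zero]; group⟩
  obtain ⟨h, hh, l, rfl⟩ := S.exists_word H hw
  have hm : S.Mon H (h * S.wn H l)⁻¹ (1 * S.wp l)⁻¹ := Mon.inv S H (Mon.mul S H (S.mon_HH H hh) (S.mon_wn H l))
  obtain ⟨-, μ, hμ, -, m1, m2⟩ := hm (S.sim k)
  simp only [inv_inv] at m1 m2
  obtain ⟨W, hW⟩ : ∃ W, W = h * S.wn H l := ⟨_, rfl⟩
  rw [← hW] at hw m1 m2 ⊢
  by_cases hp : S.pos ((1 * S.wp l)⁻¹ (S.sim k))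
  · refine ⟨1, one_mem _, _, mul_mem (S.nn_mem H k hc hd) hw, W⁻¹ * S.rx H (S.sim k) (-t) * W, ?_, by group⟩
    rw [m1 _ (neg_mem htd)]
    exact H.L_mem_lift hU (S.R_mem _ _ hp)
  · have hX : S.rx H (S.sim k) (-t) = S.ry H (S.sim k) (-t)⁻¹ * S.nn H k (-t) * S.ry H (S.sim k) (-t)⁻¹ := by
      rw [S.nn_alt H k (neg_ne_zero.2 ht0) (neg_mem htd), S.ry_neg H (S.sim k) (-t)⁻¹]; group
    refine ⟨S.nn H k c * S.ry H (S.sim k) (-t)⁻¹ * (S.nn H k c)⁻¹, ?_, _,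
      mul_mem (mul_mem (S.nn_mem H k hc hd) (S.nn_mem H k (neg_ne_zero.2 ht0) (neg_mem htd))) hw,
      W⁻¹ * S.ry H (S.sim k) (-t)⁻¹ * W, ?_, ?_⟩
    · rw [S.nn_ry H k hc hd (inv_mem (neg_mem htd))]
      exact H.L_mem_lift hU (S.R_mem _ _ (S.pos_sim k))
    · rw [m2 _ (inv_mem (neg_mem htd))]
      exact H.L_mem_lift hU (S.N_mem _ _ hp)
    · rw [hX]; group

theorem closure_inS {g : Γ} (hg : g ∈ S.UU hU H ⊔ S.NN H) : S.InS hU H g := by
  have e : S.UU hU H ⊔ S.NN H =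
      Subgroup.closure ((S.UU hU H : Set Γ) ∪
        {g | ∃ k c, c ≠ 0 ∧ c ∈ S.dom (S.sim k) ∧ g = S.nn H k c}) := by
    rw [Subgroup.closure_union, Subgroup.closure_eq]; rfl
  rw [e] at hg
  induction hg using Subgroup.closure_induction_left with
  | one => exact ⟨1, one_mem _, 1, one_mem _, 1, one_mem _, by group⟩
  | mul_left x hx y _ hy =>
    rcases hx with hx | ⟨k, c, hc, hd, rfl⟩
    · simpa using S.inS_mul hU H hx hy (one_mem _)
    · exact S.nn_inS hU H hc hd hy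
  | inv_mul_cancel x hx y _ hy =>
    rcases hx with hx | ⟨k, c, hc, hd, rfl⟩
    · simpa using S.inS_mul hU H (inv_mem hx) hy (one_mem _)
    · rw [← S.nn_neg]
      exact S.nn_inS hU H (neg_ne_zero.2 hc) (neg_mem hd) hy

/-- the torus meets the unipotent group trivially in the image -/
def TorusFree : Prop := ∀ θ : ((k : κ) → S.TU k) →* G,
  (∀ [DecidableEq κ], ∀ k (c : S.TU k), θ (Pi.mulSingle k c) =
    S.R (S.sim k) (c : S.dom (S.sim k)) * S.N (S.sim k) (-((c : S.dom (S.sim k)) : F)⁻¹) *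
      S.R (S.sim k) (c : S.dom (S.sim k)) *
      (S.R (S.sim k) (-1) * S.N (S.sim k) 1 * S.R (S.sim k) (-1))) →
  ∀ x, θ x ∈ S.U → x = 1

omit hU in
theorem eq_one_of_HH (hT : S.TorusFree) {g : Γ} (hg : g ∈ S.HH H) (h1 : π g ∈ S.U) : g = 1 := by
  obtain ⟨x, rfl⟩ := hg
  rw [hT (π.comp (S.tor H)) (fun {_} k c => by
    rw [MonoidHom.comp_apply, tor, MonoidHom.noncommPiCoprod_mulSingle]
    show π (S.hh H k c) = _
    rw [hh, map_mul, S.π_nn, S.π_nn, inv_neg, inv_one, neg_neg]) x h1, map_one]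

theorem eq_one_of_ker (hT : S.TorusFree) {g : Γ} (hg : g ∈ S.UU hU H ⊔ S.NN H) (h1 : π g = 1) : g = 1 := by
  obtain ⟨_, ⟨u, hu, rfl⟩, w, hw, _, ⟨u', hu', rfl⟩, rfl⟩ := S.closure_inS hU H hg
  have hw' : π w = u⁻¹ * u'⁻¹ := by
    rw [map_mul, map_mul, H.π_L (isPElt_of_mem hU hu), H.π_L (isPElt_of_mem hU hu')] at h1
    rw [← mul_one u⁻¹, ← h1]; group
  have hwU : π w ∈ S.U := hw' ▸ mul_mem (inv_mem hu) (inv_mem hu')
  have hw1 : w = 1 := S.eq_one_of_HH H hT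
    (S.mem_HH_of_normalizes H hw fun x hx => mul_mem (mul_mem hwU hx) (inv_mem hwU)) hwU
  subst hw1
  rw [mul_one, ← H.L_mul hU hu hu'] at h1 ⊢
  exact H.lift_ker hU (H.L_mem_lift hU (mul_mem hu hu')) h1

end CfsgLib.Known.RootLiftF.Sys
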