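import Cfsg.Agent.Lib.Known.RootLiftF.Bruhat
import Cfsg.Agent.Lib.Known.RootLift.Main

/-!
# Stem extensions with kernel prime to the characteristic, parameters in subfields
-/

set_option autoImplicit false
set_option linter.unusedSectionVars false

namespace CfsgLib.Known.RootLiftF

open CfsgLib.Known.RootLift (CoprimeExt IsPElt isPElt_of_mem)
open scoped commutatorElement

namespace Sys

variable {Γ G F : Type*} [Group Γ] [Group G] [Finite Γ] [Field F] [Finite F] {ι κ : Type*} [Fintype κ]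
  {π : Γ →* G} {p : ℕ} (S : Sys G F p ι κ) [CharP F p]

/-- Weyl elements of the group itself -/
def WeylGp : Subgroup G :=
  Subgroup.closure {g | ∃ k c, c ≠ 0 ∧ c ∈ S.dom (S.sim k) ∧ g = S.R (S.sim k) c * S.N (S.sim k) (-c⁻¹) * S.R (S.sim k) c}

theorem lift_gen (hU : IsPGroup p S.U) (H : CoprimeExt π p) (hgen : S.U ⊔ S.WeylGp = ⊤) :
    (S.UU hU H ⊔ S.NN H).map π = ⊤ := by
  refine top_le_iff.1 (hgen ▸ sup_le ?_ ((Subgroup.closure_le _).2 ?_))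
  · exact fun g hg => ⟨H.L g, Subgroup.mem_sup_left (H.L_mem_lift hU hg), H.π_L (isPElt_of_mem hU hg)⟩
  · rintro _ ⟨k, c, hc, hd, rfl⟩
    exact ⟨_, Subgroup.mem_sup_right (S.nn_mem H k hc hd), S.π_nn H k c⟩

/-- a stem extension with kernel prime to `p` is trivial -/
theorem ker_eq_bot_of_coprime (hU : IsPGroup p S.U) (hp : p.Prime) (hgen : S.U ⊔ S.WeylGp = ⊤) (hT : S.TorusFree)
    (hσ : Cfsg.IsStemExtension π) (hcop : p.Coprime (Nat.card π.ker)) : π.ker = ⊥ := by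
  obtain ⟨hs, hc, hd⟩ := hσ
  have H : CoprimeExt π p := ⟨hs, hc, hp, hcop⟩
  obtain ⟨Δ, hΔ⟩ : ∃ Δ, Δ = S.UU hU H ⊔ S.NN H := ⟨_, rfl⟩
  have hmap : Δ.map π = ⊤ := hΔ ▸ S.lift_gen hU H hgen
  have hcomm : commutator Γ ≤ Δ := by
    rw [commutator_def, Subgroup.commutator_le]
    intro a _ b _
    obtain ⟨a', ha', ea⟩ : π a ∈ Δ.map π := by rw [hmap]; exact Subgroup.mem_top _
    obtain ⟨b', hb', eb⟩ : π b ∈ Δ.map π := by rw [hmap]; exact Subgroup.mem_top _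
    have hza : a'⁻¹ * a ∈ Subgroup.center Γ := hc (by rw [MonoidHom.mem_ker, map_mul, map_inv, ea, inv_mul_cancel])
    have hzb : b'⁻¹ * b ∈ Subgroup.center Γ := hc (by rw [MonoidHom.mem_ker, map_mul, map_inv, eb, inv_mul_cancel])
    obtain ⟨z, hz, rfl⟩ : ∃ z ∈ Subgroup.center Γ, a = a' * z := ⟨_, hza, by group⟩
    obtain ⟨w, hw, rfl⟩ : ∃ w ∈ Subgroup.center Γ, b = b' * w := ⟨_, hzb, by group⟩
    have cz : ∀ g, Commute g z := fun g => Subgroup.mem_center_iff.1 hz g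
    have cw : ∀ g, Commute g w := fun g => Subgroup.mem_center_iff.1 hw g
    have e : ⁅a' * z, b' * w⁆ = ⁅a', b'⁆ := by
      simp only [commutatorElement_def, mul_inv_rev]
      calc a' * z * (b' * w) * (z⁻¹ * a'⁻¹) * (w⁻¹ * b'⁻¹)
          = a' * (z * (b' * w)) * z⁻¹ * a'⁻¹ * w⁻¹ * b'⁻¹ := by group
        _ = a' * ((b' * w) * z) * z⁻¹ * a'⁻¹ * w⁻¹ * b'⁻¹ := by rw [(cz _).eq]
        _ = a' * b' * (w * a'⁻¹) * w⁻¹ * b'⁻¹ := by group
        _ = a' * b' * (a'⁻¹ * w) * w⁻¹ * b'⁻¹ := by rw [(cw _).eq]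
        _ = a' * b' * a'⁻¹ * b'⁻¹ := by group
    rw [e, commutatorElement_def]
    exact mul_mem (mul_mem (mul_mem ha' hb') (inv_mem ha')) (inv_mem hb')
  exact (Subgroup.eq_bot_iff_forall _).2 fun z hz =>
    S.eq_one_of_ker hU H hT (hΔ ▸ hcomm (hd hz)) (MonoidHom.mem_ker.1 hz)

/-- the decomposition of the group by itself -/
theorem exists_central_torus (hU : IsPGroup p S.U) (hp : p.Prime) (hgen : S.U ⊔ S.WeylGp = ⊤) {z : G}
    (hz : z ∈ Subgroup.center G) [Finite G] :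
    ∃ u ∈ S.U, ∃ x : (k : κ) → S.TU k, z = S.tor (CfsgLib.Known.RootLift.coprimeExt_id hp) x * u := by
  obtain ⟨H, hH⟩ : ∃ H : CoprimeExt (MonoidHom.id G) p, H = CfsgLib.Known.RootLift.coprimeExt_id hp := ⟨_, rfl⟩
  have hL : ∀ g ∈ S.U, H.L g = g := fun g hg =>
    hH ▸ CfsgLib.Known.RootLift.L_id hp (isPElt_of_mem hU hg)
  have hzm : z ∈ S.UU hU H ⊔ S.NN H := by
    have := S.lift_gen hU H hgen
    rw [Subgroup.map_id] at this
    rw [this]; exact Subgroup.mem_top _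
  obtain ⟨_, ⟨u, hu, rfl⟩, w, hw, _, ⟨u', hu', rfl⟩, e⟩ := S.closure_inS hU H hzm
  rw [hL u hu, hL u' hu'] at e
  have hzc : ∀ g, g * z = z * g := Subgroup.mem_center_iff.1 hz
  have hwe : w = z * (u⁻¹ * u'⁻¹) := by
    rw [show z * (u⁻¹ * u'⁻¹) = u⁻¹ * z * u'⁻¹ by rw [hzc u⁻¹]; group, e]
    group
  have hwH : w ∈ S.HH H := by
    refine S.mem_HH_of_normalizes H hw fun x hx => ?_
    have hux : u⁻¹ * u'⁻¹ * x * (u⁻¹ * u'⁻¹)⁻¹ ∈ S.U :=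
      mul_mem (mul_mem (mul_mem (inv_mem hu) (inv_mem hu')) hx) (inv_mem (mul_mem (inv_mem hu) (inv_mem hu')))
    have e2 : MonoidHom.id G w * x * (MonoidHom.id G w)⁻¹ = u⁻¹ * u'⁻¹ * x * (u⁻¹ * u'⁻¹)⁻¹ := by
      show w * x * w⁻¹ = _
      rw [hwe, show z * (u⁻¹ * u'⁻¹) * x * (z * (u⁻¹ * u'⁻¹))⁻¹ =
        z * (u⁻¹ * u'⁻¹ * x * (u⁻¹ * u'⁻¹)⁻¹) * z⁻¹ by group, ← hzc, mul_inv_cancel_right]
    rw [e2]
    exact hux
  obtain ⟨x, hx⟩ := hwH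
  refine ⟨(u⁻¹ * u'⁻¹)⁻¹, inv_mem (mul_mem (inv_mem hu) (inv_mem hu')), x, ?_⟩
  rw [← hH, hx, hwe]
  group

end Sys

end CfsgLib.Known.RootLiftF
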